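import Groth.Agent.ExtShX.StalkExt
import Groth.Agent.ExtShX.CohLocal
import Groth.Agent.ExtShX.Basic
import Groth.Agent.SpSeqPO.Abut
import Groth.Agent.SerreReg.Regular
import Groth.Agent.QC.Support
import Groth.Agent.S0458
import Groth.Agent.S11919
import Mathlib.Topology.Sober
import Groth.Prelude.Def_Models

/-!
# Global dimension of a regular Noetherian scheme of finite dimension
-/

set_option autoImplicit false
set_option linter.style.haveILetI false
set_option backward.isDefEq.respectTransparency false
set_option backward.isDefEq.respectTransparency.types false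
set_option maxHeartbeats 1000000

universe u v w

open CategoryTheory CategoryTheory.Limits AlgebraicGeometry TopologicalSpace Opposite
open Abelian

noncomputable section

namespace Groth.Agent.ExtVanReg

/-- An abutment whose second page vanishes in total degree `n` vanishes in degree `n`. -/
theorem isZero_of_page_zero {C : Type u} [Category.{v} C] [Abelian C] {r₀ : ℤ}
    {E : CohomologicalSpectralSequence C r₀} {H : ℤ → C} (a : SpSeq.Abutment E H) (n : ℤ) (hfin : a.IsFinite n)
    (h : ∀ p : ℤ, IsZero ((E.page r₀ le_rfl).X (p, n - p))) : IsZero (H n) := by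
  obtain ⟨⟨i, hi⟩, ⟨j, hj⟩⟩ := hfin
  change a.fil n i = ⊤ at hi
  change a.fil n j = ⊥ at hj
  have hz : ∀ s, IsZero (SpSeq.grPiece (a.fil n) (a.anti n) s) := fun s =>
    SpSeqPO.isZero_gr a (s, n - s) r₀ le_rfl (h s) n (by omega)
  have hbt : (⊤ : Subobject (H n)) = ⊥ := by
    rcases le_total i j with hij | hij
    · rw [← hi, SpSeqPO.fil_eq_of_isZero_gr (a.fil n) (a.anti n) i j hij (fun s _ _ => hz s), hj]
    · exact le_bot_iff.1 (hi ▸ hj ▸ a.anti n hij)
  haveI : IsIso (⊤ : Subobject (H n)).arrow := (Subobject.isIso_arrow_iff_eq_top _).2 rfl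
  rw [IsZero.iff_id_eq_zero, ← cancel_epi (⊤ : Subobject (H n)).arrow, comp_zero, Category.comp_id]
  exact SpSeqPO.arrow_eq_zero_of_eq_bot hbt

/-- `Ext` over a regular local ring vanishes above the dimension. -/
theorem subsingleton_ext_of_dim_lt {R : Type u} [CommRing R] [IsRegularLocalRing R] (M N : ModuleCat.{u} R) (q : ℕ)
    (hq : ringKrullDim R < q) : Subsingleton (Ext.{u} M N q) := by
  obtain ⟨d, hd⟩ : ∃ d : ℕ, ringKrullDim R = d := ⟨_, (IsRegularLocalRing.spanFinrank_maximalIdeal (R := R)).symm⟩
  rw [hd, Nat.cast_lt] at hq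
  haveI : HasProjectiveDimensionLT M (d + 1) := SerreReg.pdLE_of_isRegularLocalRing R d hd M
  exact HasProjectiveDimensionLT.subsingleton M (d + 1) q hq N

variable {X : Scheme.{u}}

/-- A closed set of points of codimension at least `q` has dimension at most `d - q`. -/
theorem dim_add_le {Z : Set X} (hZ : IsClosed Z) {d q : ℕ} (hd : topologicalKrullDim X = d)
    (h : ∀ z ∈ Z, (q : WithBot ℕ∞) ≤ ringKrullDim (X.presheaf.stalk z)) :
    topologicalKrullDim Z ≤ ((d - q : ℕ) : WithBot ℕ∞) := by
  haveI : QuasiSober Z := hZ.isClosedEmbedding_subtypeVal.quasiSober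
  refine iSup_le fun l => ?_
  let T := IrreducibleCloseds.map (Subtype.val : Z → X) continuous_subtype_val
  let l' := l.map T (IrreducibleCloseds.map_strictMono_of_isInducing Topology.IsInducing.subtypeVal)
  let z : Z := l.last.isIrreducible.genericPoint
  have hcl : (l.last : Set Z) = closure {z} :=
    l.last.isClosed.closure_eq.symm.trans l.last.isIrreducible.genericPoint_closure_eq.symm
  have he : l'.last = (irreducibleSetEquivPoints (α := X)).symm z.1 := by
    refine IrreducibleCloseds.ext ?_
    change closure (Subtype.val '' (l.last : Set Z)) = closure {z.1}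
    rw [hcl, closure_image_closure continuous_subtype_val, Set.image_singleton]
  have h1 : (q : ℕ∞) ≤ Order.coheight l'.last := by
    rw [he, Order.coheight_orderIso]
    have := h z.1 z.2
    rw [ringKrullDim_stalk_eq_coheight] at this
    exact WithBot.coe_le_coe.1 this
  have h2 : ((l.length : ℕ∞) + q : ℕ∞) ≤ (d : ℕ∞) := by
    have hh : (l.length : ℕ∞) ≤ Order.height l'.last := Order.length_le_height_last (p := l')
    haveI : Nonempty (IrreducibleCloseds X) := ⟨l'.last⟩
    have := (Order.krullDim_eq_iSup_height_add_coheight_of_nonempty (α := IrreducibleCloseds X)).symm.trans hd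
    refine WithBot.coe_le_coe.1 ((WithBot.coe_le_coe.2 ?_).trans this.le)
    exact (add_le_add hh h1).trans (le_iSup (fun a => Order.height a + Order.coheight a) l'.last)
  norm_cast at h2
  rw [Nat.cast_le]
  omega

/-- Cohomology of an `Ext` sheaf of coherent modules on a regular scheme. -/
theorem subsingleton_HH [IsNoetherian X] (hreg : Models.IsRegularScheme X) {d : ℕ} (hd : topologicalKrullDim X = d)
    {F G : X.Modules} (hF : Coh.IsCoh F) (hG : Coh.IsCoh G) {p q : ℕ} (h : d < p + q) :
    Subsingleton (Coh.HH X ((ExtShX.R F q).obj G) p) := by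
  let E := (ExtShX.R F q).obj G
  have hE : Coh.IsCoh E := ExtShX.isCoh_R_loc F G hF hG q
  have hcl : IsClosed (CohB1.support E) := QC.isClosed_support hE.2
  have hst : ∀ z ∈ CohB1.support E, (q : WithBot ℕ∞) ≤ ringKrullDim (X.presheaf.stalk z) := fun z hz => by
    by_contra hlt
    haveI := hreg z
    obtain ⟨e⟩ := ExtShX.nonempty_stalk_R F hF z q G
    haveI := subsingleton_ext_of_dim_lt ((DerSch.stalkFunctor X z).obj F) ((DerSch.stalkFunctor X z).obj G) q
      (not_le.1 hlt)
    exact hz e.toLinearEquiv.toEquiv.subsingleton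
  let Z : X.Opens := ⟨(CohB1.support E)ᶜ, hcl.isOpen_compl⟩
  refine FreeJ.subsingleton_H_of_support (X := TopCat.of X) (G := Coh.toAb E) Z
    (fun x hx => not_not.1 (show ¬ ¬ Subsingleton (E.presheaf.stalk x) from hx)) p fun M => ?_
  rcases le_or_gt q d with hqd | hqd
  · haveI : NoetherianSpace ((Z : Set X)ᶜ : Set X) := NoetherianSpace.set _
    refine S0458.result (X := TopCat.of ((Z : Set X)ᶜ : Set X)) (d - q) ?_ M p (by omega)
    refine dim_add_le Z.2.isClosed_compl hd fun z hz => hst z ?_
    exact not_not.1 hz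
  · refine FreeJ.subsingleton_of_isZero (FreeJ.isZero_of_stalks fun x => ?_) p
    exfalso
    have hq := hst x.1 (not_not.1 x.2)
    haveI : Nonempty (IrreducibleCloseds X) := ⟨(irreducibleSetEquivPoints (α := X)).symm x.1⟩
    have hle : ringKrullDim (X.presheaf.stalk x.1) ≤ d := by
      rw [ringKrullDim_stalk_eq_coheight]
      refine le_trans ?_ hd.le
      rw [← Order.coheight_orderIso (irreducibleSetEquivPoints (α := X)).symm]
      exact Order.coheight_le_krullDim _
    exact absurd (hq.trans hle) (by rw [Nat.cast_le]; omega)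

/-- `Ext` between coherent modules vanishes above the dimension. -/
theorem subsingleton_ext [IsNoetherian X] [HasExt.{u} X.Modules] (hreg : Models.IsRegularScheme X) {d : ℕ}
    (hd : topologicalKrullDim X = d) {F G : X.Modules} (hF : Coh.IsCoh F) (hG : Coh.IsCoh G) {n : ℕ} (hn : d < n) :
    Subsingleton (Ext.{u} F G n) := by
  haveI : ModSite.HasSheafHom (O := X.sheaf) F := ModSiteTensor.hasSheafHom (O := X.sheaf) F
  haveI : HasInjectiveResolutions (ModSite.Mod X.sheaf) := (inferInstance : HasInjectiveResolutions X.Modules)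
  obtain ⟨E, a, hfin, -, hE⟩ := S11919.result X F G
  have h := isZero_of_page_zero a n (hfin n) fun p => ?_
  · rw [if_pos (Int.natCast_nonneg n)] at h
    exact (AddCommGrpCat.isZero_iff_subsingleton.1 h :)
  · obtain ⟨e⟩ := hE p (n - p)
    refine IsZero.of_iso ?_ e
    split_ifs with hpq
    · obtain ⟨e'⟩ := ExtShX.nonempty_extShIso F ((n : ℤ) - p).toNat G
      haveI := subsingleton_HH hreg hd hF hG (p := p.toNat) (q := ((n : ℤ) - p).toNat) (by omega)
      exact AddCommGrpCat.isZero_of_subsingleton (AddCommGrpCat.of _) |>.of_iso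
        ((extFunctorObj _ p.toNat).mapIso ((SheafOfModules.toSheaf X.ringCatSheaf).mapIso e'))
    · exact isZero_zero _

end Groth.Agent.ExtVanReg
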