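import Groth.Agent.ExtVanReg.Basic
import Mathlib.Algebra.Homology.DerivedCategory.HomologySequence
import Mathlib.Algebra.Homology.DerivedCategory.FullyFaithful
import Mathlib.CategoryTheory.Triangulated.TStructure.TruncLTGE
import Groth.Prelude.Def_DCoh2
import Groth.Agent.K0Coh.Basic

/-!
# Dévissage of bounded objects into their cohomology objects
-/

set_option autoImplicit false
set_option linter.style.haveILetI false
set_option backward.isDefEq.respectTransparency false
set_option backward.isDefEq.respectTransparency.types false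
set_option maxHeartbeats 1000000

universe w v u

open CategoryTheory CategoryTheory.Limits DerivedCategory Pretriangulated

noncomputable section

namespace Groth.Agent.ExtVanReg

variable {C : Type u} [Category.{v} C] [Abelian C] [HasDerivedCategory.{w} C]

local notation "Hd" => DerivedCategory.homologyFunctor C

/-- The two truncations at `a + 1` of an object above `a`. -/
theorem trunc_step (K : DerivedCategory C) (a : ℤ) [K.IsGE a] :
    DerivedCategory.IsGE ((TStructure.t.truncLT (a + 1)).obj K) a ∧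
    DerivedCategory.IsLE ((TStructure.t.truncLT (a + 1)).obj K) a ∧
    IsIso ((Hd a).map ((TStructure.t.truncLTι (a + 1)).app K)) ∧
    ∀ i, a + 1 ≤ i → IsIso ((Hd i).map ((TStructure.t.truncGEπ (a + 1)).app K)) := by
  have hT := TStructure.t.triangleLTGE_distinguished (a + 1) K
  have hLE : DerivedCategory.IsLE ((TStructure.t.truncLT (a + 1)).obj K) a :=
    TStructure.t.isLE_truncLT_obj K (a + 1) a
  haveI hGE : DerivedCategory.IsGE ((TStructure.t.truncGE (a + 1)).obj K) (a + 1) :=
    inferInstanceAs (TStructure.t.IsGE ((TStructure.t.truncGE (a + 1)).obj K) (a + 1))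
  have hmono : ∀ q, Mono ((Hd q).map ((TStructure.t.truncLTι (a + 1)).app K)) := fun q => by
    by_cases hq : q ≤ a
    · exact (HomologySequence.mono_homologyMap_mor₁_iff _ hT (q - 1) q).2
        (IsZero.eq_of_src (isZero_of_isGE _ (a + 1) (q - 1) (by omega)) _ _)
    · exact ⟨fun _ _ _ => (isZero_of_isLE _ a q (by omega)).eq_of_tgt _ _⟩
  refine ⟨(isGE_iff _ _).2 fun q hq => ?_, hLE, ?_, fun i hi => ?_⟩
  · haveI := hmono q
    exact IsZero.of_mono ((Hd q).map ((TStructure.t.truncLTι (a + 1)).app K)) (isZero_of_isGE K a q hq)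
  · haveI := hmono a
    haveI : Epi ((Hd a).map ((TStructure.t.truncLTι (a + 1)).app K)) :=
      (HomologySequence.exact₂ _ hT a).epi_f ((isZero_of_isGE _ (a + 1) a (by omega)).eq_of_tgt _ _)
    exact isIso_of_mono_of_epi _
  · have h1 : ∀ j : ℤ, a + 1 ≤ j → IsZero ((Hd j).obj ((TStructure.t.truncLT (a + 1)).obj K)) := fun j hj =>
      isZero_of_isLE _ a j (by omega)
    have : Mono ((Hd i).map ((TStructure.t.truncGEπ (a + 1)).app K)) :=
      (HomologySequence.exact₂ _ hT i).mono_g ((h1 i hi).eq_of_src _ _)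
    have : Epi ((Hd i).map ((TStructure.t.truncGEπ (a + 1)).app K)) :=
      (HomologySequence.exact₃ _ hT i (i + 1) rfl).epi_f ((h1 (i + 1) (by omega)).eq_of_tgt _ _)
    exact isIso_of_mono_of_epi _

/-- Maps between bounded objects vanish if they do between shifted cohomology objects. -/
theorem hom_zero_left (P : ObjectProperty C) [P.IsClosedUnderIsomorphisms] (hP0 : ∀ M : C, IsZero M → P M)
    (L : DerivedCategory C) (b : ℤ) :
    ∀ (n : ℕ) (K : DerivedCategory C) (a : ℤ), K.IsGE a → K.IsLE b → b < a + n → (∀ i, P ((Hd i).obj K)) →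
      (∀ (p : ℤ) (M : C), a ≤ p → P M → ∀ φ : (singleFunctor C p).obj M ⟶ L, φ = 0) → ∀ φ : K ⟶ L, φ = 0
  | 0, K, a, _, _, hn, _, _, φ => by
    refine IsZero.eq_of_src ?_ _ _
    rw [IsZero.iff_id_eq_zero]
    exact TStructure.t.zero _ b a (by omega)
  | n + 1, K, a, _, _, hn, hK, hL, φ => by
    obtain ⟨h1, h2, h3, h4⟩ := trunc_step K a
    have hz : (TStructure.t.truncLTι (a + 1)).app K ≫ φ = 0 := by
      obtain ⟨M, ⟨e⟩⟩ := exists_iso_singleFunctor_obj_of_isGE_of_isLE ((TStructure.t.truncLT (a + 1)).obj K) a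
      have hM : P M := P.prop_of_iso ((asIso ((Hd a).map ((TStructure.t.truncLTι (a + 1)).app K))).symm ≪≫
        (Hd a).mapIso e ≪≫ (singleFunctorCompHomologyFunctorIso C a).app M) (hK a)
      rw [← cancel_epi e.inv, comp_zero]
      exact hL a M le_rfl hM _
    obtain ⟨g, rfl⟩ := Triangle.yoneda_exact₂ _ (TStructure.t.triangleLTGE_distinguished (a + 1) K) φ hz
    haveI : DerivedCategory.IsGE ((TStructure.t.truncGE (a + 1)).obj K) (a + 1) :=
      inferInstanceAs (TStructure.t.IsGE ((TStructure.t.truncGE (a + 1)).obj K) (a + 1))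
    have hLE : DerivedCategory.IsLE ((TStructure.t.truncGE (a + 1)).obj K) b := (isLE_iff _ _).2 fun q hq => by
      by_cases hqa : a + 1 ≤ q
      · haveI := h4 q hqa
        exact (isZero_of_isLE K b q hq).of_iso (asIso ((Hd q).map ((TStructure.t.truncGEπ (a + 1)).app K))).symm
      · exact isZero_of_isGE _ (a + 1) q (by omega)
    rw [hom_zero_left P hP0 L b n ((TStructure.t.truncGE (a + 1)).obj K) (a + 1) inferInstance hLE (by omega)
      (fun i => ?_) (fun p M hp hM => hL p M (by omega) hM) g, comp_zero]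
    by_cases hia : a + 1 ≤ i
    · haveI := h4 i hia
      exact P.prop_of_iso (asIso ((Hd i).map ((TStructure.t.truncGEπ (a + 1)).app K))) (hK i)
    · exact hP0 _ (isZero_of_isGE _ (a + 1) i (by omega))

/-- The same in the target variable. -/
theorem hom_zero_right (P : ObjectProperty C) [P.IsClosedUnderIsomorphisms] (hP0 : ∀ M : C, IsZero M → P M)
    (K : DerivedCategory C) (b : ℤ) :
    ∀ (n : ℕ) (L : DerivedCategory C) (a : ℤ), L.IsGE a → L.IsLE b → b < a + n → (∀ i, P ((Hd i).obj L)) →
      (∀ (q : ℤ) (M : C), q ≤ b → P M → ∀ φ : K ⟶ (singleFunctor C q).obj M, φ = 0) → ∀ φ : K ⟶ L, φ = 0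
  | 0, L, a, _, _, hn, _, _, φ => by
    refine IsZero.eq_of_tgt ?_ _ _
    rw [IsZero.iff_id_eq_zero]
    exact TStructure.t.zero _ b a (by omega)
  | n + 1, L, a, _, _, hn, hL, hK, φ => by
    rcases le_or_gt a b with hab | hab
    swap
    · refine IsZero.eq_of_tgt ?_ _ _
      rw [IsZero.iff_id_eq_zero]
      exact TStructure.t.zero _ b a hab
    obtain ⟨h1, h2, h3, h4⟩ := trunc_step L a
    haveI : DerivedCategory.IsGE ((TStructure.t.truncGE (a + 1)).obj L) (a + 1) :=
      inferInstanceAs (TStructure.t.IsGE ((TStructure.t.truncGE (a + 1)).obj L) (a + 1))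
    have hLE : DerivedCategory.IsLE ((TStructure.t.truncGE (a + 1)).obj L) b := (isLE_iff _ _).2 fun q hq => by
      by_cases hqa : a + 1 ≤ q
      · haveI := h4 q hqa
        exact (isZero_of_isLE L b q hq).of_iso (asIso ((Hd q).map ((TStructure.t.truncGEπ (a + 1)).app L))).symm
      · exact isZero_of_isGE _ (a + 1) q (by omega)
    have hz : φ ≫ (TStructure.t.truncGEπ (a + 1)).app L = 0 :=
      hom_zero_right P hP0 K b n _ (a + 1) inferInstance hLE (by omega) (fun i => by
        by_cases hia : a + 1 ≤ i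
        · haveI := h4 i hia
          exact P.prop_of_iso (asIso ((Hd i).map ((TStructure.t.truncGEπ (a + 1)).app L))) (hL i)
        · exact hP0 _ (isZero_of_isGE _ (a + 1) i (by omega))) hK _
    obtain ⟨g, rfl⟩ := Triangle.coyoneda_exact₂ _ (TStructure.t.triangleLTGE_distinguished (a + 1) L) φ hz
    obtain ⟨M, ⟨e⟩⟩ := exists_iso_singleFunctor_obj_of_isGE_of_isLE ((TStructure.t.truncLT (a + 1)).obj L) a
    have hM : P M := P.prop_of_iso ((asIso ((Hd a).map ((TStructure.t.truncLTι (a + 1)).app L))).symm ≪≫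
      (Hd a).mapIso e ≪≫ (singleFunctorCompHomologyFunctorIso C a).app M) (hL a)
    have : g = 0 := by
      rw [← cancel_mono e.hom, zero_comp]
      exact hK a M hab hM _
    rw [this, zero_comp]

/-- Maps between single objects as shifted maps. -/
theorem single_hom_eq_zero (F G : C) (p q : ℤ)
    (h : ∀ φ : (singleFunctor C 0).obj F ⟶ ((singleFunctor C 0).obj G)⟦p - q⟧, φ = 0)
    (φ : (singleFunctor C p).obj F ⟶ (singleFunctor C q).obj G) : φ = 0 := by
  let eF := ((DerivedCategory.singleFunctors C).shiftIso p 0 p (add_zero p)).app F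
  let eG := ((DerivedCategory.singleFunctors C).shiftIso p (q - p) q (by omega)).app G
  let eG' := ((DerivedCategory.singleFunctors C).shiftIso (p - q) (q - p) 0 (by omega)).app G
  refine (shiftFunctor (DerivedCategory C) p).map_injective ?_
  rw [Functor.map_zero, ← cancel_epi eF.inv, ← cancel_mono (eG.hom ≫ eG'.inv), comp_zero, zero_comp]
  exact h _

section Sch

open AlgebraicGeometry

attribute [local instance] HasDerivedCategory.standard

theorem main (X : Scheme.{u}) [IsNoetherian X] (hreg : Models.IsRegularScheme X) (d : ℕ)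
    (hd : topologicalKrullDim X = d) :
    (∀ (F G : X.Modules), Coh.IsCoh F → Coh.IsCoh G → ∀ n : ℤ, (d : ℤ) < n →
        ∀ φ : DCoh.inD X F ⟶ (shiftFunctor (DCoh.D X) n).obj (DCoh.inD X G), φ = 0) := by
  haveI : HasExt.{u} X.Modules := inferInstance
  intro F G hF hG n hn φ
  obtain ⟨m, rfl⟩ : ∃ m : ℕ, (m : ℤ) = n := ⟨n.toNat, Int.toNat_of_nonneg (by omega)⟩
  haveI := subsingleton_ext hreg hd hF hG (n := m) (by omega)
  exact ((Abelian.Ext.homEquiv (X := F) (Y := G) (n := m)).symm.injective.subsingleton).elim φ 0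

end Sch

end Groth.Agent.ExtVanReg
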